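import Groth.Agent.AbscissaLB75.Plane.Divisors
import Groth.Agent.S11042

/-!
A plane curve of degree at most `D` over a field of `Q` elements with a smooth rational point has
at least `Q / C` rational points, off any given curve of degree at most `D` missing that point.
-/

noncomputable section

set_option linter.unusedSectionVars false

universe u v

namespace Groth.Agent.AbscissaLB75

open FunFld WithZero Polynomial Groth.Agent.FFLib

section Residues

variable {k : Type u} {K : Type v} [Field k] [Field K] [Algebra k K]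

theorem exists_value_of_deg_one {P : Place k K} (hP : P.deg = 1) (w : P.O) :
    ∃ c : k, IsLocalRing.residue P.O w = algebraMap k _ c := by
  haveI : FiniteDimensional k (IsLocalRing.ResidueField P.O) :=
    FiniteDimensional.of_finrank_pos (by rw [show Module.finrank k _ = P.deg from rfl, hP]; exact one_pos)
  obtain ⟨c, hc⟩ := (finrank_eq_one_iff_of_nonzero' (1 : IsLocalRing.ResidueField P.O) one_ne_zero).1 hP
    (IsLocalRing.residue P.O w)
  exact ⟨c, hc.symm.trans (Algebra.algebraMap_eq_smul_one c).symm⟩

/-- The residue map as an algebra homomorphism. -/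
def resAlg (P : Place k K) : P.O →ₐ[k] IsLocalRing.ResidueField P.O :=
  { IsLocalRing.residue P.O with commutes' := fun c => rfl }

/-- The inclusion of the valuation ring as an algebra homomorphism. -/
def inclAlg (P : Place k K) : P.O →ₐ[k] K :=
  { P.O.subtype with commutes' := fun c => rfl }

/-- The values at a degree one place where `x` and `y` are regular. -/
theorem exists_values {P : Place k K} (hP : P.deg = 1) {x y : K} (hx : P.1 x ≤ 1) (hy : P.1 y ≤ 1) :
    ∃ t z : k, P.1 (x - algebraMap k K t) < 1 ∧
      ∀ p : k[X][X], (ev x y p = 0 → ev t z p = 0) ∧ (P.1 (ev x y p) = 1 → ev t z p ≠ 0) := by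
  let x' : P.O := ⟨x, hx⟩
  let y' : P.O := ⟨y, hy⟩
  obtain ⟨t, ht⟩ := exists_value_of_deg_one hP x'
  obtain ⟨z, hz⟩ := exists_value_of_deg_one hP y'
  have key : ∀ p : k[X][X], IsLocalRing.residue P.O (ev x' y' p) = algebraMap k _ (ev t z p) ∧
      (ev x' y' p : K) = ev x y p := fun p => by
    refine ⟨?_, map_ev (inclAlg P) x' y' p⟩
    refine (map_ev (resAlg P) x' y' p).trans ?_
    rw [show resAlg P x' = algebraMap k _ t from ht, show resAlg P y' = algebraMap k _ z from hz]
    exact (map_ev (Algebra.ofId k (IsLocalRing.ResidueField P.O)) t z p).symm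
  refine ⟨t, z, ?_, fun p => ⟨fun h0 => ?_, fun h1 h0 => ?_⟩⟩
  · have h : IsLocalRing.residue P.O (x' - algebraMap k P.O t) = 0 := by
      rw [map_sub, ht, sub_eq_zero]
      rfl
    exact (FFLib.residue_eq_zero P _).1 h
  · have h : ev x' y' p = 0 := Subtype.ext ((key p).2.trans h0)
    have := (key p).1
    rw [h, map_zero] at this
    exact (algebraMap k (IsLocalRing.ResidueField P.O)).injective (this.symm.trans (map_zero _).symm)
  · have h := (key p).1
    rw [h0, map_zero] at h
    have h' : P.1 (ev x y p) < 1 := (key p).2 ▸ (FFLib.residue_eq_zero P _).1 h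
    exact h'.ne h1

end Residues

/-- Zeros of `g` off `e` and off the line `t = 0`. -/
abbrev Zeros {k : Type u} [Field k] (g e : k[X][X]) : Type u :=
  {P : k × k // P.1 ≠ 0 ∧ ev P.1 P.2 g = 0 ∧ ev P.1 P.2 e ≠ 0}

/-- The constant in the count. -/
def cst (D : ℕ) : ℕ :=
  (4 * (2 * D ^ 3 + 1) + 2) ^ 2 + 4 * (8 * D ^ 3 + 4 * D ^ 2 + 4 * D + 4) + 4 * D + 4

/-- The count, given the function field of the curve. -/
theorem count_of_functionField {k : Type u} {K : Type v} [Field k] [Finite k] [Field K] [Algebra k K]
    {D : ℕ} {g e : k[X][X]} (hg : DegLE D g) (he : DegLE D e) (hnat : 0 < g.natDegree) (x y : K)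
    (hxy : IntermediateField.adjoin k ({x, y} : Set K) = ⊤) (hx : Transcendental k x)
    (hex : ev x y g = 0) (hee : ev x y e ≠ 0)
    (hconst : ∀ z : K, IsAlgebraic k z → z ∈ Set.range (algebraMap k K))
    (hQ : cst D ≤ Nat.card k) : Nat.card k ≤ cst D * Nat.card (Zeros g e) := by
  classical
  set G := 2 * D ^ 3 + 1 with hG
  set B₀ := 8 * D ^ 3 + 4 * D ^ 2 + 4 * D + 4 with hB₀
  set F := IntermediateField.adjoin k ({x} : Set K)
  let σ : k[X] →+* F := (aeval (⟨x, IntermediateField.mem_adjoin_simple_self k x⟩ : F)).toRingHom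
  have hσinj : Function.Injective σ := fun a b h => by
    refine transcendental_iff_injective.1 hx ?_
    have := congrArg F.val h
    simpa [σ, ← aeval_algHom_apply] using this
  have hroot : aeval y (g.map σ) = 0 := by
    rw [aeval_def, eval₂_map, ← hex, ev_apply]
    congr 1
    exact RingHom.ext fun a => (aeval_algHom_apply F.val _ a).symm
  have hgσ : g.map σ ≠ 0 := (Polynomial.map_ne_zero_iff hσinj).2 fun h => by simp [h] at hnat
  have hint : IsIntegral F y := (show IsAlgebraic F y from ⟨g.map σ, hgσ, hroot⟩).isIntegral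
  have htop : IntermediateField.adjoin F ({y} : Set K) = ⊤ := by
    refine IntermediateField.restrictScalars_injective k ?_
    rw [IntermediateField.adjoin_adjoin_left, IntermediateField.restrictScalars_top, Set.singleton_union]
    exact hxy
  haveI : FiniteDimensional F K := by
    have h := IntermediateField.adjoin.finiteDimensional hint
    rw [htop] at h
    exact Module.Finite.equiv IntermediateField.topEquiv.toLinearEquiv
  have hn : Module.finrank F K ≤ D := by
    rw [← IntermediateField.finrank_top', ← htop, IntermediateField.adjoin.finrank hint]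
    refine (natDegree_le_of_dvd (minpoly.dvd F y hroot) hgσ).trans ?_
    rw [natDegree_map_eq_of_injective hσinj]
    exact hg.1
  have hK : IsFunctionField k K := ⟨⟨x, hx, inferInstance⟩, hconst⟩
  have hF : IsFF k K := hK.1
  -- divisors
  let B : Divisor k K := bound x D g
  have hB : (0 : Divisor k K) ≤ B := bound_nonneg x D g
  have hy : ∀ Q : Place k K, Q.1 y ≤ exp (B Q) := val_root_le hF hx hg hnat hex
  have hdx : (poles x : Divisor k K).deg = (Module.finrank F K : ℤ) := deg_poles hF hx
  have hdB : B.deg ≤ 2 * (D : ℤ) * D := (deg_bound_le hF x hg).trans (by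
    rw [hdx]; exact mul_le_mul_of_nonneg_left (by exact_mod_cast hn) (by positivity))
  have hgen : (genus k K : ℤ) ≤ G := by
    refine (genus_le hF hK hx htop hB hy).trans ?_
    have h1 : (Module.finrank F K : ℤ) * B.deg ≤ (D : ℤ) * (2 * D * D) :=
      mul_le_mul (by exact_mod_cast hn) hdB (Divisor.deg_nonneg hB) (by positivity)
    simp only [G]; push_cast
    linarith
  have hgenN : genus k K ≤ G := by exact_mod_cast hgen
  let w := ev x y e
  have hEnn : (0 : Divisor k K) ≤ (D : ℤ) • poles x + (D : ℤ) • B := fun Q => by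
    have h1 : (0 : ℤ) ≤ poles (k := k) x Q := poles_nonneg x Q
    have h2 : (0 : ℤ) ≤ B Q := hB Q
    simp only [Finsupp.coe_zero, Pi.zero_apply, Finsupp.add_apply, Finsupp.smul_apply, smul_eq_mul]
    positivity
  have hdw : (poles w : Divisor k K).deg ≤ (D : ℤ) * D + D * (2 * D * D) := by
    refine (deg_poles_le_of_val_le hF hEnn (val_ev_le hF D hB hy he)).trans ?_
    rw [Divisor.deg_add, deg_zsmul, deg_zsmul, hdx]
    exact add_le_add (mul_le_mul_of_nonneg_left (by exact_mod_cast hn) (by positivity))
      (mul_le_mul_of_nonneg_left hdB (by positivity))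
  let Sbad : Finset (Place k K) := (poles x : Divisor k K).support ∪ (zeros x : Divisor k K).support ∪
    B.support ∪ (poles w : Divisor k K).support ∪ (zeros w : Divisor k K).support
  have hcs := fun (E : Divisor k K) (hE : 0 ≤ E) => card_support_le_deg hF hE
  have hSbad : Sbad.card ≤ B₀ := by
    have h1 := hcs _ (poles_nonneg x)
    have h2 := hcs _ (zeros_nonneg x)
    have h3 := hcs _ hB
    have h4 := hcs _ (poles_nonneg w)
    have h5 := hcs _ (zeros_nonneg w)
    rw [← deg_poles_eq_deg_zeros hF] at h2 h5
    rw [hdx] at h1 h2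
    have hu : (Sbad.card : ℤ) ≤ (poles x : Divisor k K).support.card + (zeros x : Divisor k K).support.card +
        B.support.card + (poles w : Divisor k K).support.card + (zeros w : Divisor k K).support.card := by
      have := Finset.card_union_le ((poles x : Divisor k K).support ∪ (zeros x : Divisor k K).support ∪
        B.support ∪ (poles w : Divisor k K).support) (zeros w : Divisor k K).support
      have := Finset.card_union_le ((poles x : Divisor k K).support ∪ (zeros x : Divisor k K).support ∪
        B.support) (poles w : Divisor k K).support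
      have := Finset.card_union_le ((poles x : Divisor k K).support ∪ (zeros x : Divisor k K).support) B.support
      have := Finset.card_union_le (poles x : Divisor k K).support (zeros x : Divisor k K).support
      simp only [Sbad]
      omega
    have hn' : (Module.finrank F K : ℤ) ≤ D := by exact_mod_cast hn
    have : (Sbad.card : ℤ) ≤ (B₀ : ℤ) := by
      simp only [B₀]; push_cast
      nlinarith
    exact_mod_cast this
  -- degree one places
  haveI : Finite {P : Place k K // P.deg = 1} :=
    ((finite_deg_le (k := k) hF 1).subset fun P (hP : P.deg = 1) => (hP.le : P.deg ≤ 1)).to_subtype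
  haveI := Fintype.ofFinite {P : Place k K // P.deg = 1}
  haveI := Fintype.ofFinite (Zeros g e)
  set N := Nat.card {P : Place k K // P.deg = 1}
  have hgood : ∀ P : {P : Place k K // P.deg = 1}, P.1 ∉ Sbad →
      P.1.1 x ≤ 1 ∧ P.1.1 y ≤ 1 ∧ P.1.1 x = 1 ∧ P.1.1 w = 1 := by
    intro P hP
    simp only [Sbad, Finset.mem_union, Finsupp.mem_support_iff, not_or, not_not] at hP
    obtain ⟨⟨⟨⟨h1, h2⟩, h3⟩, h4⟩, h5⟩ := hP
    rw [poles, Finsupp.mapRange_apply, div_apply hF] at h1 h4
    rw [zeros, Finsupp.mapRange_apply, div_apply hF] at h2 h5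
    have hx1 : P.1.1 x = 1 := by
      rw [val_eq_exp P.1 fun h => hx (by rw [h]; exact isAlgebraic_zero), show P.1.ord x = 0 by omega, neg_zero, exp_zero]
    have hy1 := hy P.1
    rw [h3, exp_zero] at hy1
    exact ⟨hx1.le, hy1, hx1, by rw [val_eq_exp P.1 hee, show P.1.ord w = 0 by omega, neg_zero, exp_zero]⟩
  let Good : Finset {P : Place k K // P.deg = 1} := Finset.univ.filter fun P => P.1 ∉ Sbad
  have hcount : N ≤ Good.card + B₀ := by
    have h1 : Finset.univ.card = Good.card + (Finset.univ.filter fun P : {P : Place k K // P.deg = 1} => ¬ P.1 ∉ Sbad).card :=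
      (Finset.card_filter_add_card_filter_not _).symm
    have h2 : (Finset.univ.filter fun P : {P : Place k K // P.deg = 1} => ¬ P.1 ∉ Sbad).card ≤ Sbad.card :=
      Finset.card_le_card_of_injOn (fun P => P.1) (fun P hP => by simpa using hP)
        (fun P _ P' _ h => Subtype.ext h)
    rw [Finset.card_univ, ← Nat.card_eq_fintype_card] at h1
    simp only [N]
    omega
  choose tv zv hlt hval using fun P : {P : {P : Place k K // P.deg = 1} // P ∈ Good} =>
    exists_values P.1.2 (hgood P.1 (Finset.mem_filter.1 P.2).2).1 (hgood P.1 (Finset.mem_filter.1 P.2).2).2.1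
  have ht0 : ∀ P, tv P ≠ 0 := fun P h => by
    have := hlt P
    rw [h, map_zero, sub_zero, (hgood P.1 (Finset.mem_filter.1 P.2).2).2.2.1] at this
    exact lt_irrefl _ this
  let pt : {P : {P : Place k K // P.deg = 1} // P ∈ Good} → Zeros g e := fun P =>
    ⟨(tv P, zv P), ht0 P, (hval P g).1 hex, (hval P e).2 (hgood P.1 (Finset.mem_filter.1 P.2).2).2.2.2⟩
  have hfib : ∀ Z : Zeros g e, (Finset.univ.filter fun P => pt P = Z).card ≤ D := by
    intro Z
    let u : K := x - algebraMap k K Z.1.1
    have hu0 : u ≠ 0 := fun h => hx (sub_eq_zero.1 h ▸ isAlgebraic_algebraMap _)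
    have hdu : ((zeros u : Divisor k K).support.card : ℤ) ≤ D := by
      refine (hcs _ (zeros_nonneg u)).trans ?_
      rw [← deg_poles_eq_deg_zeros hF]
      refine (deg_poles_le_of_val_le hF (poles_nonneg x) fun Q => ?_).trans (by rw [hdx]; exact_mod_cast hn)
      refine (Q.1.map_sub _ _).trans (max_le (val_le_exp_poles hF x Q) ((Q.2.1 _).trans ?_))
      rw [← exp_zero, exp_le_exp]
      exact poles_nonneg x Q
    refine le_trans ?_ (Int.ofNat_le.1 hdu)
    refine Finset.card_le_card_of_injOn (fun P => P.1.1) (fun P hP => ?_)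
      (fun P _ P' _ h => Subtype.ext (Subtype.ext h))
    have hP' : pt P = Z := (Finset.mem_filter.1 hP).2
    show P.1.1 ∈ (zeros u : Divisor k K).support
    rw [Finsupp.mem_support_iff, zeros, Finsupp.mapRange_apply, div_apply hF]
    have h1 := hlt P
    rw [show tv P = Z.1.1 from congrArg (fun W : Zeros g e => W.1.1) hP', val_lt_one_iff P.1.1 hu0] at h1
    omega
  have hGood : Good.card ≤ D * Nat.card (Zeros g e) := by
    rw [Nat.card_eq_fintype_card, ← Finset.card_univ, ← Fintype.card_coe Good, ← Finset.card_univ]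
    exact Finset.card_le_mul_card_image_of_maps_to (f := pt) (fun P _ => Finset.mem_univ _) D
      fun Z _ => hfib Z
  -- Weil bound
  have hW := S11042.result k K hK
  rw [show Nat.card {P : Place k K // P.deg = 1} = N from rfl] at hW
  set q := Nat.card k
  have hN2 : (q : ℝ) - 2 * G * Real.sqrt q ≤ N := by
    have h1 := (abs_le.1 hW).1
    have h2 : 2 * (genus k K : ℝ) * Real.sqrt q ≤ 2 * G * Real.sqrt q :=
      mul_le_mul_of_nonneg_right (by exact_mod_cast (Nat.mul_le_mul_left 2 hgenN)) (Real.sqrt_nonneg _)
    linarith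
  have hsq : 2 * (G : ℝ) * Real.sqrt q ≤ (q : ℝ) / 2 := by
    have h4 : ((4 * G + 2 : ℕ) : ℝ) ^ 2 ≤ q := by exact_mod_cast (show (4 * G + 2) ^ 2 ≤ q by simp only [cst] at hQ; rw [hG]; omega)
    have h5 : ((4 * G + 2 : ℕ) : ℝ) ≤ Real.sqrt q := Real.le_sqrt_of_sq_le h4
    push_cast at h5
    nlinarith [Real.mul_self_sqrt (show (0 : ℝ) ≤ q by positivity), Real.sqrt_nonneg (q : ℝ)]
  have hfin : q ≤ 4 * D * Nat.card (Zeros g e) := by
    have h6 : (q : ℝ) ≤ 2 * ((D * Nat.card (Zeros g e) + B₀ : ℕ) : ℝ) := by
      have h7 : (N : ℝ) ≤ ((D * Nat.card (Zeros g e) + B₀ : ℕ) : ℝ) := by exact_mod_cast (by omega : N ≤ _)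
      linarith
    have h8 : q ≤ 2 * (D * Nat.card (Zeros g e) + B₀) := by exact_mod_cast h6
    rw [show 4 * D * Nat.card (Zeros g e) = 4 * (D * Nat.card (Zeros g e)) by ring]
    simp only [cst] at hQ
    omega
  exact hfin.trans (Nat.mul_le_mul_right _ (by simp only [cst]; omega))

/-- **Rational points on plane curves with a smooth rational point.** -/
theorem card_zeros_ge {k : Type u} [Field k] [Finite k] {D : ℕ} {g e : k[X][X]} {z₀ : k}
    (hg : DegLE D g) (he : DegLE D e) (hg0 : ev (0 : k) z₀ g = 0)
    (hg1 : ev (0 : k) z₀ (derivative g) ≠ 0) (he0 : ev (0 : k) z₀ e ≠ 0) (hQ : cst D ≤ Nat.card k) :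
    Nat.card k ≤ cst D * Nat.card (Zeros g e) := by
  obtain ⟨φ, hφ0, hφ⟩ := exists_param g z₀ hg0 hg1
  have hnat : 0 < g.natDegree := by
    refine Nat.pos_of_ne_zero fun h => hg1 ?_
    rw [eq_C_of_natDegree_eq_zero h, derivative_C, map_zero]
  let ι : PowerSeries k →ₐ[k] LaurentSeries k :=
    { algebraMap (PowerSeries k) (LaurentSeries k) with
      commutes' := fun c => by
        rw [HahnSeries.algebraMap_apply']
        rfl }
  have hιinj : Function.Injective ι := IsFractionRing.injective (PowerSeries k) (LaurentSeries k)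
  set K := IntermediateField.adjoin k ({ι PowerSeries.X, ι φ} : Set (LaurentSeries k)) with hK
  let x : K := ⟨ι PowerSeries.X, IntermediateField.subset_adjoin k _ (Set.mem_insert _ _)⟩
  let y : K := ⟨ι φ, IntermediateField.subset_adjoin k _ (Set.mem_insert_of_mem _ rfl)⟩
  have hevK : ∀ p : k[X][X], (ev x y p : LaurentSeries k) = ι (ev PowerSeries.X φ p) := fun p =>
    (map_ev K.val x y p).trans (map_ev ι PowerSeries.X φ p).symm
  have hex : ev x y g = 0 := Subtype.ext (by rw [hevK, hφ, map_zero]; rfl)
  let cc : PowerSeries k →ₐ[k] k :=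
    { (PowerSeries.constantCoeff : PowerSeries k →+* k) with commutes' := fun c => PowerSeries.constantCoeff_C c }
  have hcc : ∀ p : k[X][X], PowerSeries.constantCoeff (ev PowerSeries.X φ p) = ev (0 : k) z₀ p := fun p => by
    refine (map_ev cc _ _ p).trans ?_
    show ev (PowerSeries.constantCoeff PowerSeries.X) (PowerSeries.constantCoeff φ) p = _
    rw [PowerSeries.constantCoeff_X, hφ0]
  have hee : ev x y e ≠ 0 := fun h => he0 (by
    rw [← hcc, show ev PowerSeries.X φ e = 0 from
      hιinj (by rw [← hevK, h, map_zero]; rfl), map_zero])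
  have hconst : ∀ z : K, IsAlgebraic k z → z ∈ Set.range (algebraMap k K) := fun z hz => by
    obtain ⟨c, hc⟩ := mem_range_of_isAlgebraic (hz.algebraMap (A := LaurentSeries k))
    exact ⟨c, Subtype.ext hc⟩
  have hx : Transcendental k x := fun h => by
    obtain ⟨c, hc⟩ := hconst x h
    have h1 : ι (PowerSeries.C c) = ι PowerSeries.X :=
      ((ι.commutes c).trans (congrArg Subtype.val hc) : _)
    have h2 := congrArg (PowerSeries.coeff 1) (hιinj h1)
    rw [PowerSeries.coeff_C, PowerSeries.coeff_one_X, if_neg one_ne_zero] at h2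
    exact zero_ne_one h2
  have hxy : IntermediateField.adjoin k ({x, y} : Set K) = ⊤ := by
    refine IntermediateField.map_injective K.val ?_
    rw [IntermediateField.adjoin_map, ← AlgHom.fieldRange_eq_map, IntermediateField.fieldRange_val,
      Set.image_insert_eq, Set.image_singleton]
    rfl
  exact count_of_functionField hg he hnat x y hxy hx hex hee hconst hQ

end Groth.Agent.AbscissaLB75
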