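import Groth.Agent.AbscissaLB75.Plane.Series
import Groth.Agent.FFLib.Numer
import Groth.Agent.FFLib.RR

/-!
Divisor bounds for function fields generated by a plane equation of bounded degree.
-/

noncomputable section

set_option linter.unusedSectionVars false

universe u v

namespace Groth.Agent.AbscissaLB75

open FunFld WithZero Polynomial Groth.Agent.FFLib

variable {k : Type u} {K : Type v} [Field k] [Field K] [Algebra k K]

/-- Both partial degrees are at most `D`. -/
def DegLE (D : ℕ) (g : k[X][X]) : Prop := g.natDegree ≤ D ∧ ∀ i, (g.coeff i).natDegree ≤ D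

theorem ord_le_of_val_le {P : Place k K} {x : K} (hx : x ≠ 0) {n : ℤ} (h : P.1 x ≤ exp n) :
    -P.ord x ≤ n := by
  rw [val_eq_exp P hx, exp_le_exp] at h
  exact h

theorem card_support_le_deg (hF : IsFF k K) {E : Divisor k K} (hE : 0 ≤ E) :
    (E.support.card : ℤ) ≤ E.deg := by
  have h : ∀ P ∈ E.support, (1 : ℤ) ≤ E P * (P.deg : ℤ) := fun P hP => by
    have h1 : (0 : ℤ) ≤ E P := hE P
    have h2 : E P ≠ 0 := Finsupp.mem_support_iff.1 hP
    exact one_le_mul_of_one_le_of_one_le (by omega) (by exact_mod_cast FFLib.deg_pos hF P)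
  have := Finset.card_nsmul_le_sum E.support _ 1 h
  rw [nsmul_eq_mul, mul_one] at this
  exact this

variable (hF : IsFF k K)
include hF

theorem val_aeval_le_exp (x : K) (Q : Place k K) {D : ℕ} {a : k[X]} (ha : a.natDegree ≤ D) :
    Q.1 (aeval x a) ≤ exp ((D : ℤ) * poles (k := k) x Q) := by
  have hP : (0 : ℤ) ≤ poles (k := k) x Q := poles_nonneg x Q
  rw [aeval_eq_sum_range' (n := D + 1) (by omega)]
  refine Q.1.map_sum_le fun i hi => ?_
  rw [Finset.mem_range] at hi
  rw [Algebra.smul_def, map_mul, map_pow]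
  refine (mul_le_mul' (Q.2.1 _) (pow_le_pow_left' (val_le_exp_poles hF x Q) i)).trans ?_
  rw [one_mul, ← exp_nsmul, exp_le_exp, nsmul_eq_mul]
  exact mul_le_mul_of_nonneg_right (by exact_mod_cast (by omega : i ≤ D)) hP

theorem poles_le {z : K} {E : Divisor k K} (hE : 0 ≤ E) (h : ∀ Q : Place k K, Q.1 z ≤ exp (E Q)) :
    poles z ≤ E := fun Q => by
  have h0 : (0 : ℤ) ≤ E Q := hE Q
  rw [poles, Finsupp.mapRange_apply, div_apply hF]
  rcases eq_or_ne z 0 with rfl | hz
  · simpa [Place.ord] using h0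
  · have := ord_le_of_val_le hz (h Q)
    omega

theorem deg_poles_eq_deg_zeros (x : K) :
    (poles x : Divisor k K).deg = (zeros x : Divisor k K).deg := by
  have h := deg_div hF x
  rw [div_eq_zeros_sub_poles, Divisor.deg_sub] at h
  omega

theorem deg_poles_le_of_val_le {z : K} {E : Divisor k K} (hE : 0 ≤ E)
    (h : ∀ Q : Place k K, Q.1 z ≤ exp (E Q)) : (poles z : Divisor k K).deg ≤ E.deg :=
  Divisor.deg_mono (poles_le hF hE h)

theorem zsmul_nonneg' {n : ℤ} (hn : 0 ≤ n) {E : Divisor k K} (hE : 0 ≤ E) : 0 ≤ n • E := fun Q => by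
  rw [Finsupp.smul_apply, smul_eq_mul]
  exact mul_nonneg hn (hE Q)

theorem deg_poles_aeval_le (x : K) {D : ℕ} {a : k[X]} (ha : a.natDegree ≤ D) :
    (poles (aeval x a) : Divisor k K).deg ≤ (D : ℤ) * (poles x : Divisor k K).deg := by
  rw [← deg_zsmul]
  exact deg_poles_le_of_val_le hF (zsmul_nonneg' hF (Int.natCast_nonneg D) (poles_nonneg x)) fun Q => by
    rw [Finsupp.smul_apply, smul_eq_mul]; exact val_aeval_le_exp hF x Q ha

/-- The pole bound of the second coordinate. -/
def bound (x : K) (D : ℕ) (g : k[X][X]) : Divisor k K :=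
  (D : ℤ) • poles x + zeros (aeval x g.leadingCoeff)

omit hF in
theorem zeros_nonneg (x : K) : (0 : Divisor k K) ≤ zeros x := fun P => by simp [zeros]

omit hF in
theorem bound_nonneg (x : K) (D : ℕ) (g : k[X][X]) : (0 : Divisor k K) ≤ bound x D g := by
  intro Q
  have h1 : (0 : ℤ) ≤ poles (k := k) x Q := poles_nonneg x Q
  have h2 : (0 : ℤ) ≤ zeros (k := k) (aeval x g.leadingCoeff) Q := zeros_nonneg _ Q
  rw [bound, Finsupp.add_apply, Finsupp.smul_apply, smul_eq_mul, Finsupp.coe_zero, Pi.zero_apply]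
  positivity

theorem deg_bound_le (x : K) {D : ℕ} {g : k[X][X]} (hg : DegLE D g) :
    (bound x D g : Divisor k K).deg ≤ 2 * (D : ℤ) * (poles x : Divisor k K).deg := by
  rw [bound, Divisor.deg_add, deg_zsmul, ← deg_poles_eq_deg_zeros hF]
  have := deg_poles_aeval_le hF x (hg.2 g.natDegree)
  rw [show g.leadingCoeff = g.coeff g.natDegree from rfl]
  linarith

theorem val_root_le {x y : K} (hx : Transcendental k x) {D : ℕ} {g : k[X][X]} (hg : DegLE D g)
    (hg0 : 0 < g.natDegree) (hy : ev x y g = 0) (Q : Place k K) :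
    Q.1 y ≤ exp (bound (k := k) x D g Q) := by
  by_contra hlt
  rw [not_le] at hlt
  set B := bound (k := k) x D g Q with hB
  have hB0 : (0 : ℤ) ≤ B := bound_nonneg x D g Q
  set n := g.natDegree
  have hy1 : 1 ≤ Q.1 y := le_trans (by rw [← exp_zero, exp_le_exp]; exact hB0) hlt.le
  have ha : aeval x g.leadingCoeff ≠ 0 := fun h => by
    have := transcendental_iff_injective.1 hx (h.trans (map_zero _).symm)
    have hg' : g = 0 := leadingCoeff_eq_zero.1 this
    exact hg0.ne' (show g.natDegree = 0 by rw [hg', natDegree_zero])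
  have hsum : ev x y g = ∑ i ∈ Finset.range (n + 1), aeval x (g.coeff i) * y ^ i := by
    rw [ev_apply, eval₂_eq_sum_range]
    rfl
  rw [hy, Finset.sum_range_succ, eq_comm, add_eq_zero_iff_neg_eq] at hsum
  have h1 : Q.1 (aeval x g.leadingCoeff) * Q.1 y ^ n ≤
      exp ((D : ℤ) * poles (k := k) x Q) * Q.1 y ^ (n - 1) := by
    rw [← map_pow, ← map_mul, show g.leadingCoeff = g.coeff n from rfl, ← hsum, Valuation.map_neg]
    refine Q.1.map_sum_le fun i hi => ?_
    rw [Finset.mem_range] at hi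
    rw [map_mul, map_pow]
    exact mul_le_mul' (val_aeval_le_exp hF x Q (hg.2 i)) (pow_le_pow_right' hy1 (by omega))
  have hypow : Q.1 y ^ (n - 1) ≠ 0 :=
    pow_ne_zero _ (ne_of_gt (lt_of_lt_of_le zero_lt_one hy1))
  rw [show Q.1 y ^ n = Q.1 y ^ (n - 1) * Q.1 y by rw [← pow_succ]; congr 1; omega,
    mul_left_comm, mul_comm (exp _) (Q.1 y ^ (n - 1))] at h1
  have h2 : Q.1 (aeval x g.leadingCoeff) * Q.1 y ≤ exp ((D : ℤ) * poles (k := k) x Q) :=
    le_of_mul_le_mul_left h1 (zero_lt_iff.2 hypow)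
  have hy0 : y ≠ 0 := fun h => by rw [h, map_zero] at hlt; exact not_lt_zero' hlt
  rw [val_eq_exp Q ha, val_eq_exp Q hy0, ← exp_add, exp_le_exp] at h2
  rw [val_eq_exp Q hy0, exp_lt_exp] at hlt
  have hz : Q.ord (aeval x g.leadingCoeff) ≤ zeros (k := k) (aeval x g.leadingCoeff) Q := by
    rw [zeros, Finsupp.mapRange_apply, div_apply hF]
    exact le_max_left _ _
  rw [hB, bound, Finsupp.add_apply, Finsupp.smul_apply, smul_eq_mul] at hlt
  omega

theorem val_ev_le {x y : K} (D : ℕ) {E : Divisor k K} (hE : 0 ≤ E)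
    (hy : ∀ Q : Place k K, Q.1 y ≤ exp (E Q)) {e : k[X][X]} (he : DegLE D e) (Q : Place k K) :
    Q.1 (ev x y e) ≤ exp (((D : ℤ) • poles x + (D : ℤ) • E : Divisor k K) Q) := by
  rw [ev_apply, eval₂_eq_sum_range, Finsupp.add_apply, Finsupp.smul_apply, Finsupp.smul_apply,
    smul_eq_mul, smul_eq_mul]
  refine Q.1.map_sum_le fun i hi => ?_
  rw [Finset.mem_range] at hi
  rw [map_mul, map_pow]
  refine (mul_le_mul' (val_aeval_le_exp hF x Q (he.2 i)) (pow_le_pow_left' (hy Q) i)).trans ?_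
  rw [← exp_nsmul, ← exp_add, exp_le_exp, nsmul_eq_mul]
  have h0 : (0 : ℤ) ≤ E Q := hE Q
  have h1 : (i : ℤ) ≤ D := by exact_mod_cast le_trans (Nat.lt_succ_iff.1 hi) he.1
  linarith [mul_le_mul_of_nonneg_right h1 h0]

/-- The genus is bounded by the degree. -/
theorem genus_le (hK : IsFunctionField k K) {x y : K} (hx : Transcendental k x)
    (htop : IntermediateField.adjoin (IntermediateField.adjoin k ({x} : Set K)) ({y} : Set K) = ⊤)
    {B : Divisor k K} (hB : 0 ≤ B) (hy : ∀ Q : Place k K, Q.1 y ≤ exp (B Q)) :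
    (genus k K : ℤ) ≤ Module.finrank (IntermediateField.adjoin k ({x} : Set K)) K * B.deg + 1 := by
  classical
  set F := IntermediateField.adjoin k ({x} : Set K)
  haveI : FiniteDimensional F K := hF.finite_adjoin hx
  set n := Module.finrank F K with hn
  have hnat : (minpoly F y).natDegree = n := by
    rw [← IntermediateField.adjoin.finrank (IsIntegral.of_finite F y), htop, IntermediateField.finrank_top']
  obtain ⟨N, hN⟩ := exists_riemann_eq hK
  have hdp := deg_poles hF hx
  have hnpos : 0 < n := Module.finrank_pos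
  obtain ⟨m, hm⟩ : ∃ m : ℕ, N ≤ (m : ℤ) := ⟨N.toNat, Int.self_le_toNat N⟩
  let E : Divisor k K := (m : ℤ) • poles x + (n : ℤ) • B
  have hE0 : 0 ≤ n * B.deg := mul_nonneg (Int.natCast_nonneg n) (Divisor.deg_nonneg hB)
  have hdeg : E.deg = (m : ℤ) * n + n * B.deg := by
    rw [Divisor.deg_add, deg_zsmul, deg_zsmul, hdp]
  have hell := hN E (by
    rw [hdeg]
    have : (m : ℤ) ≤ (m : ℤ) * n := le_mul_of_one_le_right (Int.natCast_nonneg m) (by exact_mod_cast hnpos)
    linarith)
  have hind : LinearIndependent k fun p : Fin (m + 1) × Fin n => x ^ (p.1 : ℕ) * y ^ (p.2 : ℕ) := by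
    have h1 : LinearIndependent F fun i : Fin n => y ^ (i : ℕ) :=
      (linearIndependent_pow (K := F) y).comp (Fin.cast hnat.symm) (Fin.cast_injective _)
    have h2 : LinearIndependent k fun i : Fin (m + 1) =>
        (⟨x ^ (i : ℕ), pow_mem (IntermediateField.mem_adjoin_simple_self k x) _⟩ : F) :=
      LinearIndependent.of_comp F.val.toLinearMap
        ((linearIndependent_powers hx).comp (fun i : Fin (m + 1) => (i : ℕ)) Fin.val_injective)
    have h3 := linearIndependent_smul h2 h1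
    have h4 : (fun p : Fin (m + 1) × Fin n => x ^ (p.1 : ℕ) * y ^ (p.2 : ℕ)) = fun p =>
        (⟨x ^ (p.1 : ℕ), pow_mem (IntermediateField.mem_adjoin_simple_self k x) _⟩ : F) • y ^ (p.2 : ℕ) := by
      funext p
      rw [IntermediateField.smul_def, smul_eq_mul]
    rw [h4]
    exact h3
  have hmem : ∀ p : Fin (m + 1) × Fin n, x ^ (p.1 : ℕ) * y ^ (p.2 : ℕ) ∈ L E := fun p Q => by
    rw [map_mul, map_pow, map_pow]
    refine (mul_le_mul' (pow_le_pow_left' (val_le_exp_poles hF x Q) _) (pow_le_pow_left' (hy Q) _)).trans ?_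
    have h0 : (0 : ℤ) ≤ B Q := hB Q
    have h0' : (0 : ℤ) ≤ poles (k := k) x Q := poles_nonneg x Q
    rw [← exp_nsmul, ← exp_nsmul, ← exp_add, exp_le_exp, nsmul_eq_mul, nsmul_eq_mul, Finsupp.add_apply,
      Finsupp.smul_apply, Finsupp.smul_apply, smul_eq_mul, smul_eq_mul]
    exact add_le_add (mul_le_mul_of_nonneg_right (by exact_mod_cast Nat.lt_succ_iff.1 p.1.2) h0')
      (mul_le_mul_of_nonneg_right (by exact_mod_cast p.2.2.le) h0)
  haveI := L_finite hF E
  have hlb : ((m + 1) * n : ℕ) ≤ ell E := by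
    have h := LinearIndependent.fintype_card_le_finrank
      (b := fun p => (⟨_, hmem p⟩ : L E)) (LinearIndependent.of_comp (L E).subtype hind)
    rwa [Fintype.card_prod, Fintype.card_fin, Fintype.card_fin] at h
  have hlb' : ((m : ℤ) + 1) * n ≤ (ell E : ℤ) := by exact_mod_cast hlb
  rw [hell, hdeg] at hlb'
  nlinarith

end Groth.Agent.AbscissaLB75
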