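import Groth.Agent.FFLib.Local.Root
import Mathlib.Algebra.Polynomial.Bivariate
import Mathlib.Algebra.Polynomial.Reverse
import Mathlib.RingTheory.LaurentSeries

/-!
A smooth rational point of a plane curve gives a parametrisation by power series, and constants
are the only Laurent series algebraic over the base field.
-/

noncomputable section

universe u v

namespace Groth.Agent.AbscissaLB75

open Polynomial

variable {k : Type u} [Field k]

/-- Evaluation of a polynomial in two variables, the inner variable at `x`. -/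
def ev {R : Type v} [CommRing R] [Algebra k R] (x y : R) : k[X][X] →+* R :=
  eval₂RingHom (aeval x).toRingHom y

theorem ev_apply {R : Type v} [CommRing R] [Algebra k R] (x y : R) (p : k[X][X]) :
    ev x y p = p.eval₂ (aeval x).toRingHom y := rfl

theorem map_ev {R S : Type*} [CommRing R] [Algebra k R] [CommRing S] [Algebra k S] (φ : R →ₐ[k] S)
    (x y : R) (p : k[X][X]) : φ (ev x y p) = ev (φ x) (φ y) p := by
  rw [ev_apply, ev_apply, ← AlgHom.coe_toRingHom, hom_eval₂]
  congr 1
  exact RingHom.ext fun a => (aeval_algHom_apply φ x a).symm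

theorem ev_eq_eval_map {R : Type v} [CommRing R] [Algebra k R] (x y : R) (p : k[X][X]) :
    ev x y p = (p.map (aeval x).toRingHom).eval y := (eval_map _ _).symm

/-- A root with prescribed constant term of `Σ bᵢ Wⁱ` when `b₀(0) = 0 ≠ b₁(0)`. -/
theorem exists_small_root (p : Polynomial (PowerSeries k))
    (h0 : PowerSeries.constantCoeff (p.coeff 0) = 0) (h1 : PowerSeries.constantCoeff (p.coeff 1) ≠ 0) :
    ∃ w : PowerSeries k, PowerSeries.constantCoeff w = 0 ∧ p.eval w = 0 := by
  classical
  obtain ⟨u, hu⟩ : IsUnit (p.coeff 1) :=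
    PowerSeries.isUnit_iff_constantCoeff.2 (isUnit_iff_ne_zero.2 h1)
  set t : PowerSeries k := -(p.coeff 0) * ↑u⁻¹ with ht
  have ht0 : PowerSeries.constantCoeff t = 0 := by rw [ht, map_mul, map_neg, h0, neg_zero, zero_mul]
  set n := p.natDegree + 2
  let c : ℕ → PowerSeries k := fun i => -(p.coeff i) * ↑u⁻¹ * t ^ (i - 1)
  let f : Polynomial (PowerSeries k) :=
    X ^ n + (-X ^ (n - 1) + ∑ i ∈ Finset.Icc 2 n, C (c i) * X ^ (n - i))
  have hf : f.Monic := by
    refine monic_X_pow_add ((degree_add_le _ _).trans_lt (max_lt ?_ ?_))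
    · rw [degree_neg, degree_X_pow]; exact_mod_cast (show n - 1 < n by omega)
    · refine (degree_sum_le _ _).trans_lt ((Finset.sup_lt_iff (WithBot.bot_lt_coe n)).2 fun i hi => ?_)
      rw [Finset.mem_Icc] at hi
      exact (degree_C_mul_X_pow_le _ _).trans_lt (WithBot.coe_lt_coe.2 (Nat.sub_lt (by omega) (by omega)))
  have hc : ∀ i ∈ Finset.Icc 2 n, PowerSeries.constantCoeff (c i) = 0 := fun i hi => by
    rw [Finset.mem_Icc] at hi
    simp only [c, map_mul, map_pow, ht0, zero_pow (show i - 1 ≠ 0 by omega), mul_zero]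
  have hmap : f.map PowerSeries.constantCoeff = X ^ n - X ^ (n - 1) := by
    simp only [f, Polynomial.map_add, Polynomial.map_neg, Polynomial.map_pow, map_X,
      Polynomial.map_sum, Polynomial.map_mul, map_C]
    rw [Finset.sum_eq_zero fun i hi => by rw [hc i hi, map_zero, zero_mul],
      add_zero, sub_eq_add_neg]
  obtain ⟨U, hU, hU1⟩ := FFLib.powerSeries_exists_root hf (1 : k) (by simp [hmap]) (by
    rw [hmap, derivative_sub, derivative_X_pow, derivative_X_pow]
    simp only [eval_sub, eval_mul, eval_C, eval_pow, eval_X, one_pow, mul_one]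
    rw [← Nat.cast_sub (Nat.sub_le n 1), show n - (n - 1) = 1 by omega, Nat.cast_one]
    exact one_ne_zero)
  obtain ⟨U, rfl⟩ : IsUnit U :=
    PowerSeries.isUnit_iff_constantCoeff.2 (by rw [hU1]; exact isUnit_one)
  refine ⟨t * ↑U⁻¹, by rw [map_mul, ht0, zero_mul], ?_⟩
  have hkey : p.eval (t * ↑U⁻¹) * (↑U : PowerSeries k) ^ n = p.coeff 0 * f.eval ↑U := by
    rw [eval_eq_sum_range' (n := n + 1) (by omega) (t * ↑U⁻¹)]
    rw [show Finset.range (n + 1) = insert 0 (insert 1 (Finset.Icc 2 n)) by
      ext i; simp only [Finset.mem_range, Finset.mem_insert, Finset.mem_Icc]; omega]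
    rw [Finset.sum_insert (by simp), Finset.sum_insert (by simp), pow_zero, mul_one, pow_one,
      add_mul, add_mul]
    simp only [f, eval_add, eval_neg, eval_pow, eval_X, eval_finsetSum, eval_mul, eval_C, mul_add,
      Finset.mul_sum, Finset.sum_mul]
    congr 1
    congr 1
    · rw [ht, show (↑U : PowerSeries k) ^ n = ↑U ^ (n - 1) * ↑U by rw [← pow_succ, show n - 1 + 1 = n from rfl], ← hu]
      calc (↑u : PowerSeries k) * (-p.coeff 0 * ↑u⁻¹ * ↑U⁻¹) * (↑U ^ (n - 1) * ↑U)
          = -(p.coeff 0) * ↑U ^ (n - 1) * ((↑u : PowerSeries k) * ↑u⁻¹) * ((↑U : PowerSeries k) * ↑U⁻¹) := by ring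
        _ = _ := by rw [Units.mul_inv, Units.mul_inv]; ring
    · refine Finset.sum_congr rfl fun i hi => ?_
      rw [Finset.mem_Icc] at hi
      simp only [c, ← mul_assoc, neg_mul, mul_neg]
      rw [mul_pow, show (↑U : PowerSeries k) ^ n = ↑U ^ i * ↑U ^ (n - i) by rw [← pow_add]; congr 1; omega,
        show t ^ i = t * t ^ (i - 1) by rw [← pow_succ']; congr 1; omega]
      calc p.coeff i * (t * t ^ (i - 1) * (↑U⁻¹ : PowerSeries k) ^ i) * (↑U ^ i * ↑U ^ (n - i))
          = p.coeff i * t * t ^ (i - 1) * ((↑U⁻¹ : PowerSeries k) * ↑U) ^ i * ↑U ^ (n - i) := by ring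
        _ = _ := by rw [Units.inv_mul, one_pow, ht]; ring
  rw [hU, mul_zero] at hkey
  exact (IsUnit.mul_left_eq_zero (U.isUnit.pow n)).1 hkey

/-- **A parametrisation at a smooth rational point.** -/
theorem exists_param (g : k[X][X]) (z₀ : k) (h0 : ev (0 : k) z₀ g = 0)
    (h1 : ev (0 : k) z₀ (derivative g) ≠ 0) :
    ∃ φ : PowerSeries k, PowerSeries.constantCoeff φ = z₀ ∧ ev PowerSeries.X φ g = 0 := by
  let p := (g.map (aeval (PowerSeries.X : PowerSeries k)).toRingHom).comp (X + C (PowerSeries.C z₀))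
  let cc : PowerSeries k →ₐ[k] k :=
    { (PowerSeries.constantCoeff : PowerSeries k →+* k) with commutes' := fun c => PowerSeries.constantCoeff_C c }
  have hcc : ∀ q : k[X][X],
      PowerSeries.constantCoeff ((q.map (aeval (PowerSeries.X : PowerSeries k)).toRingHom).eval (PowerSeries.C z₀)) =
        ev (0 : k) z₀ q := fun q => by
    rw [← ev_eq_eval_map]
    refine (map_ev cc _ _ q).trans ?_
    show ev (PowerSeries.constantCoeff PowerSeries.X) (PowerSeries.constantCoeff (PowerSeries.C z₀)) q = _
    rw [PowerSeries.constantCoeff_X, PowerSeries.constantCoeff_C]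
  have hp0 : p.coeff 0 = (g.map (aeval (PowerSeries.X : PowerSeries k)).toRingHom).eval (PowerSeries.C z₀) := by
    rw [coeff_zero_eq_eval_zero, eval_comp]
    simp
  have hp1 : p.coeff 1 =
      ((derivative g).map (aeval (PowerSeries.X : PowerSeries k)).toRingHom).eval (PowerSeries.C z₀) := by
    have : (derivative p).coeff 0 = p.coeff 1 := by simp [coeff_derivative]
    rw [← this, coeff_zero_eq_eval_zero, derivative_comp, eval_mul, eval_comp, ← derivative_map]
    simp
  obtain ⟨w, hw, hw0⟩ := exists_small_root p (by rw [hp0, hcc, h0]) (by rw [hp1, hcc]; exact h1)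
  refine ⟨w + PowerSeries.C z₀, by rw [map_add, hw, PowerSeries.constantCoeff_C, zero_add], ?_⟩
  rw [ev_eq_eval_map]
  simpa [p, eval_comp] using hw0

/-- Laurent series algebraic over the constants are constants. -/
theorem mem_range_of_isAlgebraic {y : LaurentSeries k} (hy : IsAlgebraic k y) :
    y ∈ Set.range (algebraMap k (LaurentSeries k)) := by
  have hC : ∀ c : k, algebraMap k (LaurentSeries k) c =
      algebraMap (PowerSeries k) (LaurentSeries k) (PowerSeries.C c) := fun c => by
    rw [HahnSeries.algebraMap_apply']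
    rfl
  have hint : ∀ z : LaurentSeries k, IsAlgebraic k z →
      ∃ a : PowerSeries k, algebraMap (PowerSeries k) (LaurentSeries k) a = z := fun z hz => by
    refine IsIntegrallyClosed.algebraMap_eq_of_integral
      (hz.isIntegral.map_of_comp_eq (PowerSeries.C) (RingHom.id _) ?_)
    exact RingHom.ext fun c => (hC c).symm
  obtain ⟨a, rfl⟩ := hint y hy
  refine ⟨PowerSeries.constantCoeff a, ?_⟩
  rw [hC]
  congr 1
  by_contra hne
  set b := a - PowerSeries.C (PowerSeries.constantCoeff a) with hb
  have hb0 : b ≠ 0 := fun h => hne (sub_eq_zero.1 h).symm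
  have halg : IsAlgebraic k (algebraMap (PowerSeries k) (LaurentSeries k) b) := by
    rw [hb, map_sub, ← hC]
    exact hy.sub (isAlgebraic_algebraMap _)
  obtain ⟨c, hc⟩ := hint _ halg.inv
  have h1 : b * c = 1 := IsFractionRing.injective (PowerSeries k) (LaurentSeries k) (by
    rw [map_mul, hc, map_one, mul_inv_cancel₀ ((map_ne_zero_iff _ (IsFractionRing.injective _ _)).2 hb0)])
  have h2 := congrArg PowerSeries.constantCoeff h1
  rw [map_mul, hb, map_sub, PowerSeries.constantCoeff_C, sub_self, zero_mul, map_one] at h2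
  exact zero_ne_one h2

end Groth.Agent.AbscissaLB75
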